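import Mathlib
import Cfsg.Agent.Lib.Thompson.Offender.Structure
import Cfsg.Agent.Lib.Coprime.Action

/-!
An abelian `2`-group containing a best offender with the fixed points prescribed by replacement
acts quadratically: it centralizes the fixed points of the offender.
-/

set_option autoImplicit false
set_option linter.unusedVariables false
set_option linter.style.haveILetI false
set_option linter.unusedSectionVars false

namespace Cfsg.Agent.ThompsonS3

open Cfsg
open Cfsg.Agent.Thompson Cfsg.Agent.Thompson.Off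
open scoped commutatorElement

variable {G : Type*} [Group G]

/-- The elements `v` of an abelian group `V` with `[v, A] ⊆ N`. -/
def commKer (V A N : Subgroup G) (hV : IsMulCommutative V)
    (hAV : A ≤ Subgroup.normalizer (V : Set G)) : Subgroup G where
  carrier := {v | v ∈ V ∧ ∀ a ∈ A, ⁅v, a⁆ ∈ N}
  one_mem' := ⟨one_mem _, fun a _ => by simp⟩
  mul_mem' := fun {u v} hu hv => ⟨mul_mem hu.1 hv.1, fun a ha => by
    rw [commutatorElement_mul_left_of_mem hV (hAV ha) hu.1 hv.1]
    exact mul_mem (hu.2 a ha) (hv.2 a ha)⟩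
  inv_mem' := fun {u} hu => ⟨inv_mem hu.1, fun a ha => by
    have h := commutatorElement_mul_left_of_mem hV (hAV ha) (inv_mem hu.1) hu.1
    rw [inv_mul_cancel, commutatorElement_one_left] at h
    rw [eq_inv_of_mul_eq_one_left h.symm]
    exact inv_mem (hu.2 a ha)⟩

theorem commutator_le_of_le_commKer {V A N S : Subgroup G} {hV : IsMulCommutative V}
    {hAV : A ≤ Subgroup.normalizer (V : Set G)} (h : S ≤ commKer V A N hV hAV) : ⁅S, A⁆ ≤ N :=
  Subgroup.commutator_le.mpr fun _ hv a ha => (h hv).2 a ha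

theorem le_commKer_of_commutator_le {V A N S : Subgroup G} {hV : IsMulCommutative V}
    {hAV : A ≤ Subgroup.normalizer (V : Set G)} (hS : S ≤ V) (h : ⁅S, A⁆ ≤ N) :
    S ≤ commKer V A N hV hAV :=
  fun _ hv => ⟨hS hv, fun _ ha => h (Subgroup.commutator_mem_commutator hv ha)⟩

theorem le_normalizer_commutator {A X Y : Subgroup G} (hX : A ≤ Subgroup.normalizer (X : Set G))
    (hY : A ≤ Subgroup.normalizer (Y : Set G)) :
    A ≤ Subgroup.normalizer ((⁅X, Y⁆ : Subgroup G) : Set G) := by
  refine Coprime.le_normalizer_of_conj_mem fun a ha z hz => ?_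
  suffices h : ⁅X, Y⁆ ≤ (⁅X, Y⁆).comap (MulAut.conj a).toMonoidHom from h hz
  rw [Subgroup.commutator_le]
  intro x hx y hy
  show a * ⁅x, y⁆ * a⁻¹ ∈ ⁅X, Y⁆
  rw [conjugate_commutatorElement]
  exact Subgroup.commutator_mem_commutator ((Subgroup.mem_normalizer_iff.mp (hX ha) _).mp hx)
    ((Subgroup.mem_normalizer_iff.mp (hY ha) _).mp hy)

theorem commutator_iSup_le {ι : Sort*} {V A N : Subgroup G} (hV : IsMulCommutative V)
    (hAV : A ≤ Subgroup.normalizer (V : Set G)) {S : ι → Subgroup G} (hS : ∀ i, S i ≤ V)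
    (h : ∀ i, ⁅S i, A⁆ ≤ N) : ⁅⨆ i, S i, A⁆ ≤ N :=
  commutator_le_of_le_commKer (hV := hV) (hAV := hAV)
    (iSup_le fun i => le_commKer_of_commutator_le (hS i) (h i))

theorem commutator_sup_left_le {V A N S S' : Subgroup G} (hV : IsMulCommutative V)
    (hAV : A ≤ Subgroup.normalizer (V : Set G)) (hS : S ≤ V) (hS' : S' ≤ V)
    (h : ⁅S, A⁆ ≤ N) (h' : ⁅S', A⁆ ≤ N) : ⁅S ⊔ S', A⁆ ≤ N :=
  commutator_le_of_le_commKer (hV := hV) (hAV := hAV)
    (sup_le (le_commKer_of_commutator_le hS h) (le_commKer_of_commutator_le hS' h'))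

variable [Finite G] {V H : Subgroup G} [Fact (Nat.Prime 2)]

/-- A component of an offender of order two has its plane moved into the centre. -/
theorem commutator_plane_le (c : OffCtx 2 V H) {A B : Subgroup G} (hB : IsTrans 2 V H B)
    (hA : A ≤ H) (hAB : A ≤ Subgroup.centralizer (B : Set G)) :
    ⁅⁅V, eOf 2 H B⁆, A⁆ ≤ ⁅V, B⁆ := by
  set P := ⁅V, eOf 2 H B⁆ with hP
  set z := ⁅V, B⁆ with hz
  have hAV : A ≤ Subgroup.normalizer (V : Set G) := hA.trans c.hHV
  have hBn : A ≤ Subgroup.normalizer (B : Set G) :=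
    hAB.trans (Subgroup.centralizer_le_normalizer _)
  have hEn : A ≤ Subgroup.normalizer (eOf 2 H B : Set G) :=
    Coprime.le_normalizer_sup (le_normalizer_commutator (hA.trans OffCtx.le_normalizer_q) hBn) hBn
  have hPn : A ≤ Subgroup.normalizer (P : Set G) := le_normalizer_commutator hAV hEn
  have hzn : A ≤ Subgroup.normalizer (z : Set G) := le_normalizer_commutator hAV hBn
  have hzP : z ≤ P := Subgroup.commutator_mono le_rfl le_sup_right
  have hzc : Nat.card z = 2 := (centre_spec c hB).1
  have hPc : Nat.card P = 4 := card_commutator_eOf c hB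
  have hidx : (z.subgroupOf P).index = 2 := by
    have h := Subgroup.card_mul_index (z.subgroupOf P)
    rw [Nat.card_congr (Subgroup.subgroupOfEquivOfLe hzP).toEquiv, hzc, hPc] at h
    omega
  rw [Subgroup.commutator_le]
  intro v hv a ha
  have hw : a * v⁻¹ * a⁻¹ ∈ P := (Subgroup.mem_normalizer_iff.mp (hPn ha) _).mp (inv_mem hv)
  have hiff : v ∈ z ↔ a * v⁻¹ * a⁻¹ ∈ z := by
    rw [← Subgroup.mem_normalizer_iff.mp (hzn ha) v⁻¹, inv_mem_iff]
  have h2 := Subgroup.mul_mem_iff_of_index_two hidx (a := ⟨v, hv⟩) (b := ⟨a * v⁻¹ * a⁻¹, hw⟩)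
  simp only [Subgroup.mem_subgroupOf, Subgroup.coe_mul] at h2
  have h3 := h2.mpr hiff
  rw [commutatorElement_def, mul_assoc v, mul_assoc v]
  simpa [mul_assoc] using h3

/-- The key consequence of replacement: the replaced offender has the same fixed points. -/
theorem fixed_le_centralizer (c : OffCtx 2 V H) {A A₀ : Subgroup G} (hA : A ≤ H)
    (hAab : IsMulCommutative A) (hAp : IsPGroup 2 A) (hle : A₀ ≤ A)
    (ho : IsBestOffenderOn 2 V A₀)
    (hfix : V ⊓ Subgroup.centralizer (A₀ : Set G) ≤
      ⁅V, A⁆ ⊔ (V ⊓ Subgroup.centralizer (A : Set G))) :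
    V ⊓ Subgroup.centralizer (A₀ : Set G) ≤ Subgroup.centralizer (A : Set G) := by
  classical
  have hAV : A ≤ Subgroup.normalizer (V : Set G) := hA.trans c.hHV
  have hVc : IsMulCommutative V := c.hV.1
  obtain ⟨k, B, hB, -, hsup⟩ := c.decomposition (Nat.card A₀) A₀ le_rfl (hle.trans hA) ho
  have hBA : ∀ i, B i ≤ A := fun i => (hB i).2.trans hle
  have hAB : ∀ i, A ≤ Subgroup.centralizer (B i : Set G) := fun i =>
    (le_centralizer_self hAab).trans (Subgroup.centralizer_le (hBA i))
  set E : Fin k → Subgroup G := fun i => eOf 2 H (B i) with hEdef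
  have hEn : ∀ i, A ≤ Subgroup.normalizer (E i : Set G) := fun i => by
    have hBn : A ≤ Subgroup.normalizer (B i : Set G) :=
      (hAB i).trans (Subgroup.centralizer_le_normalizer _)
    exact Coprime.le_normalizer_sup
      (le_normalizer_commutator (hA.trans OffCtx.le_normalizer_q) hBn) hBn
  have hPV : ∀ i, ⁅V, E i⁆ ≤ V := fun i =>
    commutator_le_of_le_normalizer ((eOf_le c (hB i).1).trans c.hHV)
  have hzV : ∀ i, ⁅V, B i⁆ ≤ V := fun i => centre_le_V c (hB i).1
  set M : Subgroup G := V ⊓ ⨅ i, Subgroup.centralizer (E i : Set G) with hMdef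
  set Z : Subgroup G := ⨆ i, ⁅V, B i⁆ with hZdef
  have hMV : M ≤ V := inf_le_left
  have hMn : A ≤ Subgroup.normalizer (M : Set G) := by
    refine Coprime.le_normalizer_inf hAV (Coprime.le_normalizer_of_conj_mem fun a ha x hx => ?_)
    rw [Subgroup.mem_iInf] at hx ⊢
    exact fun i => (Subgroup.mem_normalizer_iff.mp
      (Coprime.le_normalizer_centralizer (hEn i) ha) x).mp (hx i)
  -- the planes and `M` generate `V`
  have hgen : V ≤ (⨆ i, ⁅V, E i⁆) ⊔ M := by
    have key : ∀ S : Finset (Fin k), ∀ v ∈ V, ∃ u ∈ V,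
        (∀ i ∈ S, u ∈ Subgroup.centralizer (E i : Set G)) ∧ v * u⁻¹ ∈ ⨆ i, ⁅V, E i⁆ := by
      intro S
      induction S using Finset.induction with
      | empty => intro v hv; exact ⟨v, hv, fun i hi => by simp at hi, by simp⟩
      | insert i S hi ih =>
        intro v hv
        obtain ⟨u, hu, huS, huv⟩ := ih v hv
        have hu' : u ∈ ((⁅V, E i⁆ ⊔ (V ⊓ Subgroup.centralizer (E i : Set G)) : Subgroup G) :
            Set G) := by
          rw [SetLike.mem_coe, hEdef, eOf_plane_sup c (hB i).1]; exact hu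
        rw [Subgroup.coe_mul_of_right_le_normalizer_left _ _
          ((inf_le_left.trans (le_centralizer_self hVc)).trans
            ((Subgroup.centralizer_le (hPV i)).trans (Subgroup.centralizer_le_normalizer _)))] at hu'
        obtain ⟨w, hw, m, hm, rfl⟩ := hu'
        refine ⟨m, hm.1, fun j hj => ?_, ?_⟩
        · rcases Finset.mem_insert.mp hj with rfl | hj
          · exact hm.2
          · rcases pair_dichotomy c (hB j).1 (hB i).1 with h | h
            · show m ∈ Subgroup.centralizer (E j : Set G)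
              rw [show E j = E i from h]
              exact hm.2
            · have h1 : w ∈ Subgroup.centralizer (E j : Set G) := (h.2 hw).2
              have := mul_mem (inv_mem h1) (huS j hj)
              rwa [inv_mul_cancel_left] at this
        · have : v * m⁻¹ = v * (w * m)⁻¹ * w := by group
          rw [this]
          exact mul_mem huv (Subgroup.mem_iSup_of_mem i hw)
    intro v hv
    obtain ⟨u, hu, hus, huv⟩ := key Finset.univ v hv
    have huM : u ∈ M := ⟨hu, Subgroup.mem_iInf.mpr fun i => hus i (Finset.mem_univ i)⟩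
    have : v = v * u⁻¹ * u := by group
    rw [this]
    exact mul_mem (Subgroup.mem_sup_left huv) (Subgroup.mem_sup_right huM)
  -- `A` fixes the centres
  have hZA : ⁅Z, A⁆ = ⊥ := by
    refine le_bot_iff.mp (commutator_iSup_le hVc hAV hzV fun i => ?_)
    have hzn : A ≤ Subgroup.normalizer ((⁅V, B i⁆ : Subgroup G) : Set G) :=
      le_normalizer_commutator hAV ((hAB i).trans (Subgroup.centralizer_le_normalizer _))
    rcases eq_bot_or_eq_of_card_prime (centre_spec c (hB i).1).1
      (commutator_le_of_le_normalizer hzn) with h | h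
    · exact h.le
    · have hP : IsPGroup 2 (⁅V, B i⁆ ⊔ A : Subgroup G) :=
        ((isPGroup_of_isElementaryAbelian c.hV).to_le (hzV i)).to_sup_of_normal_left' hAp hzn
      have := Cfsg.Agent.Thompson.eq_bot_of_commutator_eq_self hP le_sup_left
        (h.ge.trans (Subgroup.commutator_mono le_rfl le_sup_right))
      rw [this, Subgroup.commutator_bot_left]
  set L := ⁅M, A⁆ with hLdef
  have hLV : L ≤ V := (commutator_le_of_le_normalizer hMn).trans hMV
  have hZV : Z ≤ V := iSup_le hzV
  -- `[V, A]` is small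
  have hVA : ⁅V, A⁆ ≤ Z ⊔ L := by
    refine (Subgroup.commutator_mono hgen le_rfl).trans ?_
    refine commutator_sup_left_le hVc hAV (iSup_le hPV) hMV ?_ le_sup_right
    exact commutator_iSup_le hVc hAV hPV fun i =>
      ((commutator_plane_le c (hB i).1 hA (hAB i)).trans
        (le_iSup (fun i => ⁅V, B i⁆) i)).trans le_sup_left
  set U := V ⊓ Subgroup.centralizer (A₀ : Set G) with hUdef
  have hUA : ⁅U, A⁆ ≤ ⁅L, A⁆ := by
    refine (Subgroup.commutator_mono (hfix.trans (sup_le_sup_right hVA _)) le_rfl).trans ?_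
    refine commutator_sup_left_le hVc hAV (sup_le hZV hLV) inf_le_left
      (commutator_sup_left_le hVc hAV hZV hLV ?_ le_rfl) ?_
    · rw [hZA]; exact bot_le
    · exact le_trans (le_of_eq (Subgroup.commutator_eq_bot_iff_le_centralizer.mpr inf_le_right))
        bot_le
  have hMU : M ≤ U := by
    refine le_inf hMV ?_
    rw [Subgroup.le_centralizer_iff, ← hsup]
    refine iSup_le fun i => ?_
    exact Subgroup.le_centralizer_iff.mp ((inf_le_right.trans (iInf_le _ i)).trans
      (Subgroup.centralizer_le (le_sup_right : B i ≤ eOf 2 H (B i))))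
  have hL : L = ⊥ := by
    have hP : IsPGroup 2 (V ⊔ A : Subgroup G) :=
      (isPGroup_of_isElementaryAbelian c.hV).to_sup_of_normal_left' hAp hAV
    exact Cfsg.Agent.Thompson.eq_bot_of_commutator_eq_self hP (hLV.trans le_sup_left)
      (((Subgroup.commutator_mono hMU le_rfl).trans hUA).trans
        (Subgroup.commutator_mono le_rfl le_sup_right))
  rw [hL, Subgroup.commutator_bot_left, le_bot_iff] at hUA
  exact Subgroup.commutator_eq_bot_iff_le_centralizer.mp hUA

end Cfsg.Agent.ThompsonS3
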