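import Mathlib
import Cfsg.Agent.ThompsonS3.Quad
import Cfsg.Agent.Lib.Thompson.Offender.Model
import Cfsg.Agent.Lib.Thompson.Factorization
import Cfsg.Agent.Lib.Thompson.WSubgroup
import Cfsg.Agent.Lib.Coprime.Abelian
import Cfsg.Agent.Lib.Fitting.Minimal
import Cfsg.Agent.BGUniq.PLocalBasic
import Cfsg.Agent.LocalEven62.GlaubWC.MaxAb
import Cfsg.Agent.S0250

/-!
Thompson factorization in solvable groups whose Fitting subgroup is a `2`-group, for the
Thompson subgroup generated by abelian subgroups of largest order.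
-/

set_option autoImplicit false
set_option linter.unusedVariables false
set_option linter.style.haveILetI false
set_option linter.unusedSectionVars false

namespace Cfsg.Agent.ThompsonS3

open Cfsg
open Cfsg.Agent.Thompson Cfsg.Agent.Thompson.Off
open Cfsg.Agent.LocalEven62 (MAb jA)
open scoped commutatorElement

universe u

variable {X : Type u} [Group X]

theorem sq_mem_centralizer_of_quadratic {W A : Subgroup X} (hW : IsElementaryAbelian 2 W)
    (hAW : A ≤ Subgroup.normalizer (W : Set X)) (hq : ⁅⁅W, A⁆, A⁆ = ⊥) {a : X} (ha : a ∈ A) :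
    a ^ 2 ∈ Subgroup.centralizer (W : Set X) := by
  rw [Subgroup.mem_centralizer_iff]
  intro w hw
  have hc : a * ⁅w, a⁆ = ⁅w, a⁆ * a := Subgroup.mem_centralizer_iff.mp
    (Subgroup.commutator_eq_bot_iff_le_centralizer.mp hq
      (Subgroup.commutator_mem_commutator hw ha)) a ha
  have hwa : ⁅w, a⁆ ∈ W := commutatorElement_mem_of_le_normalizer hAW ha hw
  rw [← commutatorElement_eq_one_iff_mul_comm, sq, commutatorElement_mul_right_eq_mul_conj]
  have h2 : ⁅w, a⁆ ^ 2 = 1 := hW.2 _ hwa
  calc ⁅w, a⁆ * a * ⁅w, a⁆ * a⁻¹ = ⁅w, a⁆ * (a * ⁅w, a⁆) * a⁻¹ := by group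
    _ = ⁅w, a⁆ ^ 2 := by rw [hc, sq]; group
    _ = 1 := h2

theorem centralizer_eq_normalCore (S : Subgroup X) :
    Subgroup.centralizer ((Subgroup.normalClosure (S : Set X) : Subgroup X) : Set X) =
      (Subgroup.centralizer (S : Set X)).normalCore := by
  apply le_antisymm
  · exact Subgroup.normal_le_normalCore.mpr (Subgroup.centralizer_le Subgroup.le_normalClosure)
  · rw [Subgroup.le_centralizer_iff]
    exact Subgroup.normalClosure_le_normal
      (Subgroup.le_centralizer_iff.mp (Subgroup.normalCore_le (Subgroup.centralizer (S : Set X))))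

theorem pCore_quotient_congr {p : ℕ} {C C' : Subgroup X} [C.Normal] [C'.Normal] (h : C = C')
    (hb : pCore p (X ⧸ C) = ⊥) : pCore p (X ⧸ C') = ⊥ := by
  subst h
  exact hb

variable [Finite X]

/-- An element of odd order centralizing `Ω₁(V)` centralizes the abelian `2`-group `V`. -/
theorem mem_centralizer_of_omegaOne {V : Subgroup X} [V.Normal] (hV : IsMulCommutative V)
    (hp : IsPGroup 2 V) {y : X} (hy : (orderOf y).Coprime 2)
    (hc : y ∈ Subgroup.centralizer (omegaOne 2 V : Set X)) :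
    y ∈ Subgroup.centralizer (V : Set X) := by
  haveI := hV
  haveI : Fact (Nat.Prime 2) := ⟨Nat.prime_two⟩
  set K := Subgroup.zpowers y with hK
  have hKn : K ≤ Subgroup.normalizer (V : Set X) := Subgroup.le_normalizer_of_normal
  have hcop : (Nat.card K).Coprime (Nat.card V) := by
    obtain ⟨n, hn⟩ := IsPGroup.iff_card.mp hp
    rw [Nat.card_zpowers, hn]
    exact hy.pow_right n
  have hfp := Coprime.commutator_inf_centralizer_eq_bot K V hKn hcop
  have hb : ⁅V, K⁆ = ⊥ := by
    by_contra hne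
    have hle : ⁅V, K⁆ ≤ V := Thompson.commutator_le_of_le_normalizer hKn
    refine omegaOne_ne_bot (p := 2) (hp.to_le hle) hne (le_bot_iff.mp (le_trans ?_ hfp.le))
    refine le_inf (omegaOne_le 2 _) ((omegaOne_mono hle).trans ?_)
    rw [Subgroup.le_centralizer_iff, hK, Subgroup.zpowers_le]
    exact hc
  exact Subgroup.le_centralizer_iff.mp
    (Subgroup.commutator_eq_bot_iff_le_centralizer.mp hb) (Subgroup.mem_zpowers y)

/-- `C(Ω₁(V)) = C(V)` when `O₂(X / C(V)) = 1`. -/
theorem centralizer_omegaOne_eq {V : Subgroup X} [V.Normal] (hV : IsMulCommutative V)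
    (hp : IsPGroup 2 V) (hb : pCore 2 (X ⧸ Subgroup.centralizer (V : Set X)) = ⊥) :
    Subgroup.centralizer (omegaOne 2 V : Set X) = Subgroup.centralizer (V : Set X) := by
  haveI : Fact (Nat.Prime 2) := ⟨Nat.prime_two⟩
  haveI := omegaOne_normal (p := 2) V
  refine le_antisymm ?_ (Subgroup.centralizer_le (omegaOne_le 2 V))
  set C := Subgroup.centralizer (V : Set X) with hC
  set D := Subgroup.centralizer (omegaOne 2 V : Set X) with hD
  have h1 : D.map (QuotientGroup.mk' C) ≤ pCore 2 (X ⧸ C) := by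
    refine le_pCore ((inferInstance : D.Normal).map _ (QuotientGroup.mk'_surjective C)) ?_
    rintro ⟨_, x, hx, rfl⟩
    obtain ⟨k, m, hm, hkm⟩ :=
      Nat.exists_eq_pow_mul_and_not_dvd (orderOf_pos x).ne' 2 (by norm_num)
    refine ⟨k, Subtype.ext ?_⟩
    rw [SubgroupClass.coe_pow, OneMemClass.coe_one, ← map_pow, QuotientGroup.mk'_apply,
      QuotientGroup.eq_one_iff]
    refine mem_centralizer_of_omegaOne hV hp ?_ (pow_mem hx _)
    have h2 : orderOf (x ^ 2 ^ k) = m := by
      rw [orderOf_pow' x (by positivity), hkm, Nat.gcd_mul_right_left,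
        Nat.mul_div_cancel_left _ (by positivity)]
    rw [h2]
    exact ((Nat.prime_two.coprime_iff_not_dvd).mpr hm).symm
  rw [hb, le_bot_iff, Subgroup.map_eq_bot_iff, QuotientGroup.ker_mk'] at h1
  exact h1

section Image

variable (W : Subgroup X) [W.Normal] [Fact (Nat.Prime 2)]

theorem measureOn_mono_image {A B : Subgroup X} (hBA : B ≤ A)
    (hker : A ⊓ (modelHom W).ker ≤ B) (h : measureOn W B ≤ measureOn W A) :
    Nat.card ↥(B.map (modelHom W)) * Nat.card ↥(W ⊓ Subgroup.centralizer (B : Set X)) ≤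
      Nat.card ↥(A.map (modelHom W)) * Nat.card ↥(W ⊓ Subgroup.centralizer (A : Set X)) := by
  have he : B ⊓ (modelHom W).ker = A ⊓ (modelHom W).ker :=
    le_antisymm (inf_le_inf_right _ hBA) (le_inf hker inf_le_right)
  have h1 := card_map_mul_card_inf_ker (modelHom W) B
  have h2 := card_map_mul_card_inf_ker (modelHom W) A
  rw [measureOn_eq, measureOn_eq, ← h1, ← h2, he] at h
  refine Nat.le_of_mul_le_mul_left (c := Nat.card ↥(A ⊓ (modelHom W).ker)) ?_ Nat.card_pos
  calc Nat.card ↥(A ⊓ (modelHom W).ker) * (Nat.card ↥(B.map (modelHom W)) *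
        Nat.card ↥(W ⊓ Subgroup.centralizer (B : Set X))) =
        Nat.card ↥(B.map (modelHom W)) * Nat.card ↥(A ⊓ (modelHom W).ker) *
          Nat.card ↥(W ⊓ Subgroup.centralizer (B : Set X)) := by ring
    _ ≤ _ := h
    _ = _ := by ring

theorem bestOffender_image {A : Subgroup X} (hab : IsMulCommutative A)
    (hsq : ∀ a ∈ A, a ^ 2 ∈ Subgroup.centralizer (W : Set X))
    (hmax : ∀ B, B ≤ A → measureOn W B ≤ measureOn W A) :
    IsBestOffenderOn 2 (modelV W) (A.map (modelHom W)) := by
  refine ⟨fun B' hB' => ?_, ?_, ?_⟩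
  · set B := A ⊓ B'.comap (modelHom W) with hB
    have hmap : B.map (modelHom W) = B' := by
      refine le_antisymm ((Subgroup.map_mono inf_le_right).trans (Subgroup.map_comap_le _ _))
        fun y hy => ?_
      obtain ⟨a, ha, rfl⟩ := hB' hy
      exact ⟨a, ⟨ha, hy⟩, rfl⟩
    have h := measureOn_mono_image W (inf_le_left : B ≤ A)
      (le_inf inf_le_left (inf_le_right.trans (MonoidHom.ker_le_comap _ _))) (hmax B inf_le_left)
    rw [← card_fixed_map W B, ← card_fixed_map W A, hmap] at h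
    exact h
  · rw [← Subgroup.map_commutator, Subgroup.commutator_self_eq_bot_iff.mpr hab, Subgroup.map_bot]
    exact bot_le
  · rintro _ ⟨a, ha, rfl⟩
    have : modelHom W (a ^ 2) = 1 := by
      rw [← MonoidHom.mem_ker, modelHom_ker]; exact hsq a ha
    rw [← map_pow, this]
    exact one_mem _

theorem fixed_transfer {A A₀ : Subgroup X}
    (hfix : W ⊓ Subgroup.centralizer (A₀ : Set X) ≤
      ⁅W, A⁆ ⊔ (W ⊓ Subgroup.centralizer (A : Set X))) :
    modelV W ⊓ Subgroup.centralizer ((A₀.map (modelHom W) : Subgroup (Model W)) : Set (Model W)) ≤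
      ⁅modelV W, A.map (modelHom W)⁆ ⊔ (modelV W ⊓
        Subgroup.centralizer ((A.map (modelHom W) : Subgroup (Model W)) : Set (Model W))) := by
  set R := ⁅modelV W, A.map (modelHom W)⁆ ⊔ (modelV W ⊓
    Subgroup.centralizer ((A.map (modelHom W) : Subgroup (Model W)) : Set (Model W))) with hR
  set K : Subgroup X := (R.comap (SemidirectProduct.inl : W →* Model W)).map W.subtype with hK
  have hiff : ∀ (w : W) (b : X), (modelHom W b * SemidirectProduct.inl w =
      (SemidirectProduct.inl w : Model W) * modelHom W b) ↔ b * (w : X) = w * b := by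
    intro w b
    have h2 := modelHom_conj W b w
    constructor
    · intro h
      rw [h, mul_inv_cancel_right] at h2
      have h3 := congrArg Subtype.val (SemidirectProduct.inl_injective h2)
      exact eq_mul_inv_iff_mul_eq.mp h3 |>.symm
    · intro h
      have h3 : (⟨b * (w : X) * b⁻¹, ‹W.Normal›.conj_mem w w.2 b⟩ : W) = w :=
        Subtype.ext (show b * (w : X) * b⁻¹ = w by rw [h, mul_inv_cancel_right])
      rw [h3] at h2
      exact mul_inv_eq_iff_eq_mul.mp h2
  have hKle : ⁅W, A⁆ ⊔ (W ⊓ Subgroup.centralizer (A : Set X)) ≤ K := by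
    refine sup_le (Subgroup.commutator_le.mpr fun w hw a ha => ?_) fun w hw => ?_
    · have hAW : A ≤ Subgroup.normalizer (W : Set X) := Subgroup.le_normalizer_of_normal
      have hm : ⁅w, a⁆ ∈ W := Thompson.commutatorElement_mem_of_le_normalizer hAW ha hw
      refine ⟨⟨⁅w, a⁆, hm⟩, Subgroup.mem_sup_left ?_, rfl⟩
      have h : (SemidirectProduct.inl (⟨⁅w, a⁆, hm⟩ : W) : Model W) =
          ⁅(SemidirectProduct.inl (⟨w, hw⟩ : W) : Model W), modelHom W a⁆ := by
        rw [commutatorElement_def (SemidirectProduct.inl (⟨w, hw⟩ : W) : Model W),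
          mul_assoc (SemidirectProduct.inl _) (modelHom W a),
          mul_assoc, ← map_inv, modelHom_conj, ← map_mul]
        exact congrArg _ (Subtype.ext (by simp [commutatorElement_def, mul_assoc]))
      rw [h]
      exact Subgroup.commutator_mem_commutator ⟨_, rfl⟩ ⟨a, ha, rfl⟩
    · refine ⟨⟨w, hw.1⟩, Subgroup.mem_sup_right ⟨⟨_, rfl⟩, ?_⟩, rfl⟩
      rintro _ ⟨b, hb, rfl⟩
      exact (hiff ⟨w, hw.1⟩ b).mpr (Subgroup.mem_centralizer_iff.mp hw.2 b hb)
  rintro _ ⟨⟨w, rfl⟩, hw⟩
  have hwC : (w : X) ∈ W ⊓ Subgroup.centralizer (A₀ : Set X) :=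
    ⟨w.2, Subgroup.mem_centralizer_iff.mpr fun b hb =>
      (hiff w b).mp (Subgroup.mem_centralizer_iff.mp hw _ ⟨b, hb, rfl⟩)⟩
  obtain ⟨w', hw', he⟩ := hKle (hfix hwC)
  rw [← Subtype.ext he]
  exact hw'

/-- A maximal abelian offender acts quadratically. -/
theorem le_centralizer_commutator (hW : IsElementaryAbelian 2 W) {Y A : Subgroup X}
    (c : OffCtx 2 (modelV W) (Y.map (modelHom W))) (hAY : A ≤ Y) (hab : IsMulCommutative A)
    (hAp : IsPGroup 2 A) (hmax : ∀ B, B ≤ A → measureOn W B ≤ measureOn W A) :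
    A ≤ Subgroup.centralizer ((⁅W, A⁆ : Subgroup X) : Set X) := by
  have hAW : A ≤ Subgroup.normalizer (W : Set X) := Subgroup.le_normalizer_of_normal
  obtain ⟨hm, hfix⟩ := replProp_commutator hW.1 hAW
    (by rw [Subgroup.commutator_self_eq_bot_iff.mpr hab]; exact bot_le) hmax (le_refl W)
  set A₀ := A ⊓ Subgroup.centralizer ((⁅W, A⁆ : Subgroup X) : Set X) with hA₀
  have hle : A₀ ≤ A := inf_le_left
  have hq : ⁅⁅W, A₀⁆, A₀⁆ = ⊥ := by
    rw [Subgroup.commutator_eq_bot_iff_le_centralizer, Subgroup.le_centralizer_iff]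
    exact (inf_le_right : A₀ ≤ _).trans
      (Subgroup.centralizer_le (Subgroup.commutator_mono le_rfl hle))
  have ho := bestOffender_image W (isMulCommutative_of_le hab hle)
    (fun a ha => sq_mem_centralizer_of_quadratic hW (hle.trans hAW) hq ha)
    (fun B hB => (hmax B (hB.trans hle)).trans (le_of_eq hm.symm))
  haveI := hab
  have h := fixed_le_centralizer c (Subgroup.map_mono hAY) inferInstance (hAp.map _)
    (Subgroup.map_mono hle) ho (fixed_transfer W hfix.le)
  have he : modelV W ⊓ Subgroup.centralizer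
      ((A₀.map (modelHom W) : Subgroup (Model W)) : Set (Model W)) = modelV W ⊓
      Subgroup.centralizer ((A.map (modelHom W) : Subgroup (Model W)) : Set (Model W)) :=
    le_antisymm (le_inf inf_le_left h)
      (inf_le_inf_left _ (Subgroup.centralizer_le (Subgroup.map_mono hle)))
  have hc : Nat.card ↥(W ⊓ Subgroup.centralizer (A₀ : Set X)) =
      Nat.card ↥(W ⊓ Subgroup.centralizer (A : Set X)) := by
    rw [← card_fixed_map W A₀, ← card_fixed_map W A, he]
  rw [measureOn_eq, measureOn_eq, hc] at hm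
  have hA : A₀ = A := Subgroup.eq_of_le_of_card_ge hle
    (Nat.eq_of_mul_eq_mul_right Nat.card_pos hm).ge
  exact hA.ge.trans inf_le_right

theorem bestOffender_of_maxAbelian (hW : IsElementaryAbelian 2 W) {Y S A : Subgroup X}
    (c : OffCtx 2 (modelV W) (Y.map (modelHom W))) (hWS : W ≤ S) (hS : IsPGroup 2 S)
    (hA : MAb S A) (hAY : A ≤ Y) :
    IsBestOffenderOn 2 (modelV W) (A.map (modelHom W)) := by
  have hAW : A ≤ Subgroup.normalizer (W : Set X) := Subgroup.le_normalizer_of_normal
  have hmax : ∀ B, B ≤ A → measureOn W B ≤ measureOn W A := by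
    intro B hB
    set P := W ⊓ Subgroup.centralizer (B : Set X) with hP
    have hc : P ≤ Subgroup.centralizer (B : Set X) := inf_le_right
    have hPB : IsMulCommutative (P ⊔ B : Subgroup X) :=
      LocalEven62.isMulCommutative_sup (fun a ha b hb => Thompson.elemAb_comm hW.1 ha.1 hb.1)
        (fun a ha b hb => hA.commute (hB ha) (hB hb))
        (fun a ha b hb => (Subgroup.mem_centralizer_iff.mp (hc ha) b hb).symm)
    have hle := hA.2.2 _ (sup_le (inf_le_left.trans hWS) (hB.trans hA.1)) hPB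
    have hcard := card_sup_mul_card_inf (H := P) (K := B)
      ((Subgroup.le_centralizer_iff.mp hc).trans (Subgroup.centralizer_le_normalizer _))
    have hin : P ⊓ B ≤ W ⊓ Subgroup.centralizer (A : Set X) :=
      le_inf (inf_le_left.trans inf_le_left)
        ((inf_le_right.trans hB).trans (le_centralizer_self hA.2.1))
    rw [measureOn_eq, measureOn_eq, ← hP, mul_comm, ← hcard]
    exact Nat.mul_le_mul hle (Subgroup.card_le_of_le hin)
  have h := le_centralizer_commutator W hW c hAY hA.2.1 (hS.to_le hA.1) hmax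
  have hq : ⁅⁅W, A⁆, A⁆ = ⊥ :=
    Subgroup.commutator_eq_bot_iff_le_centralizer.mpr (Subgroup.le_centralizer_iff.mp h)
  exact bestOffender_image W hA.2.1
    (fun a ha => sq_mem_centralizer_of_quadratic hW hAW hq ha) hmax

end Image

/-- A group generated by best offenders is a direct product of symmetric groups of degree three. -/
theorem exists_equiv_pi {G : Type u} [Group G] [Finite G] [Fact (Nat.Prime 2)] {V H : Subgroup G}
    (c : OffCtx 2 V H) (hS3 : H = ⨆ A : {A : Subgroup G // A ≤ H ∧ IsBestOffenderOn 2 V A},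
      (A : Subgroup G)) (hH : H ≠ ⊥) :
    ∃ n : ℕ, 1 ≤ n ∧ Nonempty (↥H ≃* (Fin n → Equiv.Perm (Fin 3))) := by
  classical
  let ι := {E : Subgroup G // ∃ B, IsTrans 2 V H B ∧ E = eOf 2 H B}
  let f : ι → Subgroup G := fun i => i.1
  have hf : ∀ i, ∃ A, IsTrans 2 V H A ∧ f i = eOf 2 H A := fun i => i.2
  have hall : ∀ A, IsTrans 2 V H A → ∃ i, f i = eOf 2 H A := fun A hA => ⟨⟨_, A, hA, rfl⟩, rfl⟩
  have hind := iSupIndep_components c f Subtype.val_injective hf
  have hsup := iSup_components c hS3 f Subtype.val_injective hf hall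
  haveI : Nonempty ι := by
    obtain ⟨T, hT⟩ := exists_trans c hS3 hH
    exact ⟨⟨_, T, hT, rfl⟩⟩
  haveI := Fintype.ofFinite ι
  have hcomm : Pairwise fun i j : ι => ∀ x y : G, x ∈ f i → y ∈ f j → Commute x y :=
    fun i j hij x y hx hy => (Subgroup.mem_centralizer_iff.mp
      ((other_spec c f Subtype.val_injective hf hij).1 hy) x hx)
  obtain ⟨e₃⟩ := S0250.result (F := ZMod 2) (ZMod.card 2)
  have he : ∀ i : ι, Nonempty (↥(f i) ≃* Equiv.Perm (Fin 3)) := fun i => by
    obtain ⟨B, hB, hE⟩ := hf i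
    obtain ⟨φ⟩ := eOf_nonempty_equiv c hB
    exact ⟨(MulEquiv.subgroupCongr hE).trans (φ.trans e₃)⟩
  choose e he' using fun i => (⟨(he i).some, trivial⟩ : ∃ _e : ↥(f i) ≃* Equiv.Perm (Fin 3), True)
  let Φ := Subgroup.noncommPiCoprod (H := f) hcomm
  have hrange : Φ.range = H := by rw [Subgroup.noncommPiCoprod_range, hsup]
  have hinj : Function.Injective Φ := Subgroup.injective_noncommPiCoprod_of_iSupIndep hind
  refine ⟨Fintype.card ι, Fintype.card_pos, ⟨?_⟩⟩
  exact (((MonoidHom.ofInjective hinj).trans (MulEquiv.subgroupCongr hrange)).symm.trans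
    (MulEquiv.piCongrRight e)).trans
      (MulEquiv.arrowCongr (Fintype.equivFin ι) (MulEquiv.refl _))

/-- The main statement. -/
theorem main [Group.IsSolvable X] (hF : Cfsg.fittingSubgroup X = Cfsg.pCore 2 X)
    (T : Sylow 2 X) :
    let C := (Subgroup.centralizer (((T : Subgroup X) ⊓
      Subgroup.centralizer ((T : Subgroup X) : Set X) : Subgroup X) : Set X)).normalCore
    let Y := Subgroup.normalClosure (Cfsg.thompsonSubgroupAOf (T : Subgroup X) : Set X)
    C ⊔ Y ⊔ Subgroup.normalizer (Cfsg.thompsonSubgroupAOf (T : Subgroup X) : Set X) = ⊤ ∧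
      (Y ≤ C ∨ ∃ n : ℕ, 1 ≤ n ∧
        Nonempty ((↥Y ⧸ C.subgroupOf Y) ≃* (Fin n → Equiv.Perm (Fin 3)))) := by
  haveI : Fact (Nat.Prime 2) := ⟨Nat.prime_two⟩
  intro C Y
  set J := jA (T : Subgroup X) with hJdef
  have hJT : J ≤ (T : Subgroup X) := LocalEven62.jA_le _
  have hJY : J ≤ Y := Subgroup.le_normalClosure
  refine ⟨?_, ?_⟩
  · -- the Frattini argument
    obtain ⟨Q, hQ⟩ := Cfsg.Agent.Transfer.exists_sylow_subgroupOf_normal T (C ⊔ Y)
    have h1 := Sylow.normalizer_sup_eq_top Q
    rw [hQ, Subgroup.subgroupOf_map_subtype] at h1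
    rw [eq_top_iff, ← h1]
    refine sup_le ?_ le_sup_left
    refine le_trans ?_ le_sup_right
    rw [show thompsonSubgroupAOf (T : Subgroup X) =
      jA ((T : Subgroup X) ⊓ (C ⊔ Y)) from (LocalEven62.jA_eq_of_le inf_le_left
        (le_inf hJT (hJY.trans le_sup_right))).symm]
    exact LocalEven62.normalizer_le_normalizer_jA _
  -- the module
  have hcO : Subgroup.centralizer (pCore 2 X : Set X) ≤ pCore 2 X := by
    rw [← hF]; exact Fitting.centralizer_fitting_le
  set Z : Subgroup X := (T : Subgroup X) ⊓ Subgroup.centralizer ((T : Subgroup X) : Set X) with hZ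
  set V := Subgroup.normalClosure (Z : Set X) with hVdef
  have hcV : Subgroup.centralizer (V : Set X) = C := centralizer_eq_normalCore Z
  have hconj : ∀ x ∈ Group.conjugatesOfSet (Z : Set X), ∃ S : Sylow 2 X,
      x ∈ Subgroup.centralizer ((S : Subgroup X) : Set X) := by
    intro x hx
    obtain ⟨z, hz, hzx⟩ := Group.mem_conjugatesOfSet_iff.mp hx
    obtain ⟨g, rfl⟩ := isConj_iff.mp hzx
    refine ⟨g • T, Subgroup.mem_centralizer_iff.mpr ?_⟩
    intro y hy
    rw [SetLike.mem_coe, coe_smul_sylow] at hy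
    obtain ⟨t, ht, rfl⟩ := hy
    show g * t * g⁻¹ * (g * z * g⁻¹) = g * z * g⁻¹ * (g * t * g⁻¹)
    have h : t * z = z * t := Subgroup.mem_centralizer_iff.mp hz.2 t ht
    calc g * t * g⁻¹ * (g * z * g⁻¹) = g * (t * z) * g⁻¹ := by group
      _ = g * z * g⁻¹ * (g * t * g⁻¹) := by rw [h]; group
  have hVO : V ≤ pCore 2 X := by
    refine (Subgroup.closure_le _).mpr fun x hx => ?_
    obtain ⟨S, hS⟩ := hconj x hx
    exact hcO (Subgroup.centralizer_le (pCore_le_sylow S) hS)
  have hVp : IsPGroup 2 V := isPGroup_pCore.to_le hVO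
  have hVc : IsMulCommutative V := by
    refine Subgroup.le_centralizer_iff_isMulCommutative.mp ((Subgroup.closure_le _).mpr ?_)
    intro x hx
    obtain ⟨S, hS⟩ := hconj x hx
    exact Subgroup.centralizer_le (hVO.trans (pCore_le_sylow S)) hS
  have hVgen : V ≤ ⨆ S : Sylow 2 X, V ⊓ Subgroup.centralizer ((S : Subgroup X) : Set X) := by
    refine (Subgroup.closure_le _).mpr fun x hx => ?_
    obtain ⟨S, hS⟩ := hconj x hx
    exact Subgroup.mem_iSup_of_mem S ⟨Subgroup.conjugatesOfSet_subset_normalClosure hx, hS⟩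
  have hVb := pCore_quotient_centralizer_eq_bot V hVgen
  set W := omegaOne 2 V with hWdef
  haveI : W.Normal := omegaOne_normal V
  have hWe : IsElementaryAbelian 2 W := isElementaryAbelian_omegaOne hVc
  have hcW : Subgroup.centralizer (W : Set X) = Subgroup.centralizer (V : Set X) :=
    centralizer_omegaOne_eq hVc hVp hVb
  have hWS : ∀ S : Sylow 2 X, W ≤ (S : Subgroup X) := fun S =>
    ((omegaOne_le 2 V).trans hVO).trans (pCore_le_sylow S)
  have c := offCtx_map W hWe (BGUniq.isPSolvable_of_isSolvable' 2 X)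
    (pCore_quotient_congr hcW.symm hVb) Y
  set f := modelHom W with hfdef
  have hker : f.ker = C := (modelHom_ker W).trans (hcW.trans hcV)
  by_cases hH : Y.map f = ⊥
  · left
    rw [Subgroup.map_eq_bot_iff, hker] at hH
    exact hH
  right
  have hS3 : Y.map f = ⨆ A : {A : Subgroup (Model W) // A ≤ Y.map f ∧
      IsBestOffenderOn 2 (modelV W) A}, (A : Subgroup (Model W)) := by
    refine le_antisymm ?_ (iSup_le fun A => A.2.1)
    rw [Subgroup.map_le_iff_le_comap]
    refine (Subgroup.closure_le _).mpr fun x hx => ?_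
    obtain ⟨j, hj, hjx⟩ := Group.mem_conjugatesOfSet_iff.mp hx
    obtain ⟨g, rfl⟩ := isConj_iff.mp hjx
    have hJg : jA ((g • T : Sylow 2 X) : Subgroup X) = J.map (MulAut.conj g).toMonoidHom := by
      rw [coe_smul_sylow]
      exact LocalEven62.jA_map (MulAut.conj g).injective _
    have hmem : g * j * g⁻¹ ∈ jA ((g • T : Sylow 2 X) : Subgroup X) := by
      rw [hJg]; exact ⟨j, hj, rfl⟩
    have hJgY : jA ((g • T : Sylow 2 X) : Subgroup X) ≤ Y := by
      rw [hJg]
      rintro _ ⟨y, hy, rfl⟩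
      exact (Subgroup.normalClosure_normal).conj_mem _ (hJY hy) g
    suffices h : jA ((g • T : Sylow 2 X) : Subgroup X) ≤ (⨆ A : {A : Subgroup (Model W) //
        A ≤ Y.map f ∧ IsBestOffenderOn 2 (modelV W) A}, (A : Subgroup (Model W))).comap f from
      h hmem
    rw [LocalEven62.jA_eq_sSup]
    refine sSup_le fun A hA => ?_
    rw [← Subgroup.map_le_iff_le_comap]
    have hAY : A ≤ Y := hA.le_jA.trans hJgY
    exact le_iSup (fun A : {A : Subgroup (Model W) // A ≤ Y.map f ∧
      IsBestOffenderOn 2 (modelV W) A} => (A : Subgroup (Model W)))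
      ⟨A.map f, Subgroup.map_mono hAY,
        bestOffender_of_maxAbelian W hWe c (hWS _) (g • T : Sylow 2 X).2 hA hAY⟩
  obtain ⟨n, hn, ⟨e⟩⟩ := exists_equiv_pi c hS3 hH
  refine ⟨n, hn, ⟨?_⟩⟩
  have hk : (f.comp Y.subtype).ker = C.subgroupOf Y := by
    rw [← MonoidHom.comap_ker, hker]; rfl
  have hr : (f.comp Y.subtype).range = Y.map f := by
    rw [MonoidHom.range_comp, Subgroup.range_subtype]
  exact (((QuotientGroup.quotientMulEquivOfEq hk.symm).trans
    (QuotientGroup.quotientKerEquivRange _)).trans (MulEquiv.subgroupCongr hr)).trans e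

end Cfsg.Agent.ThompsonS3
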